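import Cfsg.Agent.Lib.G2Torus.Rep
import Cfsg.Agent.Lib.Lie.TabG2
import Cfsg.Agent.Lib.Lie.ChevBruhat
import Cfsg.Agent.Lib.Classical.SL

/-! The elementary transvections go into the group generated by the root elements. -/

set_option autoImplicit false
set_option maxRecDepth 8000
set_option maxHeartbeats 4000000

namespace Cfsg.Agent.G2Torus

open Matrix Cfsg.Lie Cfsg.Agent.Chev Cfsg.Agent.Chev.Tab

/-- The table. -/
abbrev T : Tab := G2Data.tab

theorem gA : T.GoodA := ⟨G2Data.good, by decide +kernel⟩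

variable {F : Type*} [Field F]

/-- Columns of the root element 6. -/
def cols6 : List (List (ℕ × ℤ × ℕ)) :=
  [[(0, 1, 0), (8, 3, 1)],
  [(1, 1, 0), (8, (-2), 1)],
  [(2, 1, 0), (3, (-1), 1)],
  [(3, 1, 0)],
  [(4, 1, 0)],
  [(5, 1, 0), (6, (-1), 1)],
  [(6, 1, 0)],
  [(7, 1, 0), (8, (-1), 2), (0, 0, 1), (1, 1, 1)],
  [(8, 1, 0)],
  [(9, 1, 0), (10, 1, 1)],
  [(10, 1, 0)],
  [(11, 1, 0)],
  [(12, 1, 0), (13, 1, 1)],
  [(13, 1, 0)]]

theorem xcol6 : ∀ b < 14, T.xcol 6 b = cols6.getD b [] := by decide +kernel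

/-- Columns of the root element 10. -/
def cols10 : List (List (ℕ × ℤ × ℕ)) :=
  [[(0, 1, 0), (12, (-3), 1)],
  [(1, 1, 0), (12, 1, 1)],
  [(2, 1, 0), (7, 1, 1)],
  [(3, 1, 0), (12, (-1), 2), (0, 1, 1), (1, 1, 1)],
  [(4, 1, 0), (9, 1, 1)],
  [(5, 1, 0)],
  [(6, 1, 0), (11, (-1), 1)],
  [(7, 1, 0)],
  [(8, 1, 0), (13, (-1), 1)],
  [(9, 1, 0)],
  [(10, 1, 0)],
  [(11, 1, 0)],
  [(12, 1, 0)],
  [(13, 1, 0)]]

theorem xcol10 : ∀ b < 14, T.xcol 10 b = cols10.getD b [] := by decide +kernel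

/-- Columns of the root element 5. -/
def cols5 : List (List (ℕ × ℤ × ℕ)) :=
  [[(0, 1, 0), (7, (-3), 1)],
  [(1, 1, 0), (7, 2, 1)],
  [(2, 1, 0)],
  [(3, 1, 0), (2, (-1), 1)],
  [(4, 1, 0)],
  [(5, 1, 0)],
  [(6, 1, 0), (5, (-1), 1)],
  [(7, 1, 0)],
  [(8, 1, 0), (7, (-1), 2), (0, 0, 1), (1, (-1), 1)],
  [(9, 1, 0)],
  [(10, 1, 0), (9, 1, 1)],
  [(11, 1, 0)],
  [(12, 1, 0)],
  [(13, 1, 0), (12, 1, 1)]]

theorem xcol5 : ∀ b < 14, T.xcol 5 b = cols5.getD b [] := by decide +kernel

/-- Columns of the root element 1. -/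
def cols1 : List (List (ℕ × ℤ × ℕ)) :=
  [[(0, 1, 0), (3, 3, 1)],
  [(1, 1, 0), (3, (-1), 1)],
  [(2, 1, 0)],
  [(3, 1, 0)],
  [(4, 1, 0)],
  [(5, 1, 0)],
  [(6, 1, 0)],
  [(7, 1, 0), (2, 1, 1)],
  [(8, 1, 0)],
  [(9, 1, 0), (4, 1, 1)],
  [(10, 1, 0)],
  [(11, 1, 0), (6, (-1), 1)],
  [(12, 1, 0), (3, (-1), 2), (0, (-1), 1), (1, (-1), 1)],
  [(13, 1, 0), (8, (-1), 1)]]

theorem xcol1 : ∀ b < 14, T.xcol 1 b = cols1.getD b [] := by decide +kernel

theorem bas_single (b : I14) : (bas T F (T.code b) : T.D.Idx → F) = Pi.single (b : T.D.Idx) 1 :=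
  bas_code gA.toGood b

theorem x_apply {r : ℕ} (hr : r < T.n) (t : F) (a b : T.D.Idx) :
    T.D.x F r t a b = colVal T t (T.xcol r (T.code b)) a := by
  have := congrFun (x_mulVec_bas gA.toGood hr t (T.code b)) a
  rw [bas_code gA.toGood b] at this
  simpa [Matrix.mulVec_single] using this

/-- A criterion for the image of a special linear matrix to be a root element. -/
theorem rho_eq_xg {r : ℕ} (hr : r < T.n) {t : F} {A : Matrix.SpecialLinearGroup (Fin 3) F}
    (L : List (List (ℕ × ℤ × ℕ))) (hL : ∀ b < 14, T.xcol r b = L.getD b [])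
    (h : ∀ a b : I14, lin (A : Matrix (Fin 3) (Fin 3) F) ↑(A⁻¹) (Pi.single b 1) a =
      ((L.getD (T.code b) []).map fun q =>
        if T.code a = q.1 then (q.2.1 : F) * t ^ q.2.2 else 0).sum) :
    rho A = xg gA.toGood r t := by
  refine Units.ext (Matrix.ext fun a b => ?_)
  have e1 := x_apply hr t a b
  have e2 := colVal_apply (T := T) t (T.xcol r (T.code b)) a
  have e3 : T.xcol r (T.code b) = L.getD (T.code b) [] := hL _ (code_lt gA.toGood b)
  have e1 := e1.trans e2
  rw [e3] at e1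
  exact ((mat_apply A a b).trans (h a b)).trans e1.symm

theorem lin_t12 (t : F) (y : I14 → F) :
    lin (Matrix.SpecialLinearGroup.transvection (show (0 : Fin 3) ≠ 1 by decide) t :
        Matrix (Fin 3) (Fin 3) F)
      ↑((Matrix.SpecialLinearGroup.transvection (show (0 : Fin 3) ≠ 1 by decide) t)⁻¹) y =
    Sum.elim ![y (.inl 0), y (.inl 1) + t * y (.inr 5)]
      ![y (.inr 0), y (.inr 1) - t * y (.inr 0), y (.inr 2), y (.inr 3), y (.inr 4) - t * y (.inr 3),
        y (.inr 5), y (.inr 6) + 3 * t * y (.inl 0) - 2 * t * y (.inl 1) - t ^ 2 * y (.inr 5),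
        y (.inr 7), y (.inr 8) + t * y (.inr 7), y (.inr 9), y (.inr 10),
        y (.inr 11) + t * y (.inr 10)] := by
  rw [Matrix.SpecialLinearGroup.transvection_inv]
  funext i
  rcases i with i | i <;> fin_cases i <;>
    simp [lin, act, toTri, ofTri, Matrix.SpecialLinearGroup.transvection_coe, Matrix.mul_apply,
      Matrix.single_apply, Fin.sum_univ_three, Matrix.mulVec, dotProduct] <;> ring

theorem rho_t12 (t : F) :
    rho (Matrix.SpecialLinearGroup.transvection (show (0 : Fin 3) ≠ 1 by decide) t) =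
      xg gA.toGood 6 t := by
  refine rho_eq_xg (by decide) cols6 xcol6 fun a b => ?_
  rw [lin_t12]
  fin_cases a <;> fin_cases b <;> simp [cols6, Tab.code, G2Data.tab] <;> ring

theorem lin_t23 (t : F) (y : I14 → F) :
    lin ((Matrix.SpecialLinearGroup.transvection (show (1 : Fin 3) ≠ 2 by decide) t) :
        Matrix (Fin 3) (Fin 3) F)
      ↑((Matrix.SpecialLinearGroup.transvection (show (1 : Fin 3) ≠ 2 by decide) t)⁻¹) y =
    Sum.elim ![y (.inl 0) + t * y (.inr 1), y (.inl 1) + t * y (.inr 1)]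
      ![y (.inr 0), y (.inr 1), y (.inr 2), y (.inr 3), y (.inr 4), y (.inr 5) + t * y (.inr 0), y (.inr 6), y (.inr 7) + t * y (.inr 2), y (.inr 8), y (.inr 9) - t * y (.inr 4), y (.inr 10) - 3 * t * y (.inl 0) + t * y (.inl 1) - t ^ 2 * y (.inr 1), y (.inr 11) - t * y (.inr 6)] := by
  rw [Matrix.SpecialLinearGroup.transvection_inv]
  funext i
  rcases i with i | i <;> fin_cases i <;>
    simp [lin, act, toTri, ofTri, Matrix.SpecialLinearGroup.transvection_coe, Matrix.mul_apply,
      Matrix.single_apply, Fin.sum_univ_three, Matrix.mulVec, dotProduct] <;> ring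

theorem rho_t23 (t : F) :
    rho (Matrix.SpecialLinearGroup.transvection (show (1 : Fin 3) ≠ 2 by decide) t) = xg gA.toGood 10 t := by
  refine rho_eq_xg (by decide) cols10 xcol10 fun a b => ?_
  rw [lin_t23]
  fin_cases a <;> fin_cases b <;> simp [cols10, Tab.code, G2Data.tab] <;> ring

theorem lin_t21 (t : F) (y : I14 → F) :
    lin ((Matrix.SpecialLinearGroup.transvection (show (1 : Fin 3) ≠ 0 by decide) t) :
        Matrix (Fin 3) (Fin 3) F)
      ↑((Matrix.SpecialLinearGroup.transvection (show (1 : Fin 3) ≠ 0 by decide) t)⁻¹) y =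
    Sum.elim ![y (.inl 0), y (.inl 1) - t * y (.inr 6)]
      ![y (.inr 0) - t * y (.inr 1), y (.inr 1), y (.inr 2), y (.inr 3) - t * y (.inr 4), y (.inr 4), y (.inr 5) - 3 * t * y (.inl 0) + 2 * t * y (.inl 1) - t ^ 2 * y (.inr 6), y (.inr 6), y (.inr 7) + t * y (.inr 8), y (.inr 8), y (.inr 9), y (.inr 10) + t * y (.inr 11), y (.inr 11)] := by
  rw [Matrix.SpecialLinearGroup.transvection_inv]
  funext i
  rcases i with i | i <;> fin_cases i <;>
    simp [lin, act, toTri, ofTri, Matrix.SpecialLinearGroup.transvection_coe, Matrix.mul_apply,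
      Matrix.single_apply, Fin.sum_univ_three, Matrix.mulVec, dotProduct] <;> ring

theorem rho_t21 (t : F) :
    rho (Matrix.SpecialLinearGroup.transvection (show (1 : Fin 3) ≠ 0 by decide) t) = xg gA.toGood 5 t := by
  refine rho_eq_xg (by decide) cols5 xcol5 fun a b => ?_
  rw [lin_t21]
  fin_cases a <;> fin_cases b <;> simp [cols5, Tab.code, G2Data.tab] <;> ring

theorem lin_t32 (t : F) (y : I14 → F) :
    lin ((Matrix.SpecialLinearGroup.transvection (show (2 : Fin 3) ≠ 1 by decide) t) :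
        Matrix (Fin 3) (Fin 3) F)
      ↑((Matrix.SpecialLinearGroup.transvection (show (2 : Fin 3) ≠ 1 by decide) t)⁻¹) y =
    Sum.elim ![y (.inl 0) - t * y (.inr 10), y (.inl 1) - t * y (.inr 10)]
      ![y (.inr 0) + t * y (.inr 5), y (.inr 1) + 3 * t * y (.inl 0) - t * y (.inl 1) - t ^ 2 * y (.inr 10), y (.inr 2) + t * y (.inr 7), y (.inr 3), y (.inr 4) - t * y (.inr 9), y (.inr 5), y (.inr 6) - t * y (.inr 11), y (.inr 7), y (.inr 8), y (.inr 9), y (.inr 10), y (.inr 11)] := by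
  rw [Matrix.SpecialLinearGroup.transvection_inv]
  funext i
  rcases i with i | i <;> fin_cases i <;>
    simp [lin, act, toTri, ofTri, Matrix.SpecialLinearGroup.transvection_coe, Matrix.mul_apply,
      Matrix.single_apply, Fin.sum_univ_three, Matrix.mulVec, dotProduct] <;> ring

theorem rho_t32 (t : F) :
    rho (Matrix.SpecialLinearGroup.transvection (show (2 : Fin 3) ≠ 1 by decide) t) = xg gA.toGood 1 t := by
  refine rho_eq_xg (by decide) cols1 xcol1 fun a b => ?_
  rw [lin_t32]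
  fin_cases a <;> fin_cases b <;> simp [cols1, Tab.code, G2Data.tab] <;> ring

/-- The image of the special linear group lies in the group generated by root elements. -/
theorem rho_mem_group (A : Matrix.SpecialLinearGroup (Fin 3) F) : rho A ∈ T.D.group F := by
  have h12 : ∀ t : F, rho (Matrix.SpecialLinearGroup.transvection
      (show (0 : Fin 3) ≠ 1 by decide) t) ∈ T.D.group F := fun t => by
    rw [rho_t12]; exact xg_mem_group _ _ _
  have h23 : ∀ t : F, rho (Matrix.SpecialLinearGroup.transvection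
      (show (1 : Fin 3) ≠ 2 by decide) t) ∈ T.D.group F := fun t => by
    rw [rho_t23]; exact xg_mem_group _ _ _
  have h21 : ∀ t : F, rho (Matrix.SpecialLinearGroup.transvection
      (show (1 : Fin 3) ≠ 0 by decide) t) ∈ T.D.group F := fun t => by
    rw [rho_t21]; exact xg_mem_group _ _ _
  have h32 : ∀ t : F, rho (Matrix.SpecialLinearGroup.transvection
      (show (2 : Fin 3) ≠ 1 by decide) t) ∈ T.D.group F := fun t => by
    rw [rho_t32]; exact xg_mem_group _ _ _
  have key : ∀ {i j k : Fin 3} (hij : i ≠ j) (hik : i ≠ k) (hkj : k ≠ j),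
      (∀ t : F, rho (Matrix.SpecialLinearGroup.transvection hik t) ∈ T.D.group F) →
      (∀ t : F, rho (Matrix.SpecialLinearGroup.transvection hkj t) ∈ T.D.group F) →
      ∀ t : F, rho (Matrix.SpecialLinearGroup.transvection hij t) ∈ T.D.group F := by
    intro i j k hij hik hkj h1 h2 t
    rw [show t = t * 1 from (mul_one t).symm,
      ← ClassicalSL.commutator_transvection hij hik hkj, map_commutatorElement,
      commutatorElement_def]
    exact mul_mem (mul_mem (mul_mem (h1 _) (h2 _)) (inv_mem (h1 _))) (inv_mem (h2 _))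
  have hle : Subgroup.closure (ClassicalSL.elemTransvections (Fin 3) F) ≤
      (T.D.group F).comap rho := by
    rw [Subgroup.closure_le]
    rintro _ ⟨i, j, hij, c, rfl⟩
    show rho _ ∈ T.D.group F
    fin_cases i <;> fin_cases j
    · exact absurd rfl hij
    · exact h12 c
    · exact key (k := 1) (by decide) (by decide) (by decide) h12 h23 c
    · exact h21 c
    · exact absurd rfl hij
    · exact h23 c
    · exact key (k := 1) (by decide) (by decide) (by decide) h32 h21 c
    · exact h32 c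
    · exact absurd rfl hij
  rw [ClassicalSL.closure_elemTransvections] at hle
  exact hle (Subgroup.mem_top A)

end Cfsg.Agent.G2Torus
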