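import Cfsg.Agent.Lib.Lie.ChevBruhat
import Cfsg.Agent.Lib.Lie.ChevSylow

/-! The centraliser of a torus element whose weights on the roots are distinct and nontrivial. -/

set_option autoImplicit false

namespace Cfsg.Agent.G2Torus

open Cfsg.Lie Cfsg.Agent.Chev Cfsg.Agent.Chev.Tab Matrix

variable {T : Tab} {F : Type*} [Field F]

theorem eq_one_of_commute_tor (g : T.GoodA) {c : ℕ → Fˣ}
    (hc : ∀ s, T.N ≤ s → s < T.n → wt T F c s ≠ 1) :
    ∀ m k, T.N ≤ k → T.n ≤ k + m → ∀ u ∈ genS g.toGood F (Set.Ico k T.n),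
      Commute (tor T F c) u → u = 1 := by
  intro m
  induction m with
  | zero =>
    intro k _ hk u hu _
    exact genS_induction g.toGood (p := fun x => x = 1) rfl
      (fun r hr => absurd hr.2 (by have := hr.1; omega)) hu
  | succ m ih =>
    intro k hk hkm u hu hcomm
    by_cases hkn : k < T.n
    swap
    · exact genS_induction g.toGood (p := fun x => x = 1) rfl
        (fun r hr => absurd hr.2 (by have := hr.1; omega)) hu
    obtain ⟨a, z, hz, e⟩ := exists_split g hk hu
    set χ := (wt T F c k : F) with hχ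
    have hz' : tor T F c * z * (tor T F c)⁻¹ ∈ genS g.toGood F (Set.Ico (k + 1) T.n) :=
      (Subgroup.mem_normalizer_iff.1 (tor_normalizes g.toGood (fun r hr => hr.2) c) z).1 hz
    have h1 : xg g.toGood k (χ * a) * (tor T F c * z * (tor T F c)⁻¹) = xg g.toGood k a * z := by
      rw [← tor_xg g.toGood c hkn, ← e]
      have h2 : tor T F c * xg g.toGood k a * (tor T F c)⁻¹ *
          (tor T F c * z * (tor T F c)⁻¹) = tor T F c * u * (tor T F c)⁻¹ := by rw [e]; group
      rw [h2, hcomm.eq, mul_inv_cancel_right]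
    have h3 : xg g.toGood k (χ * a - a) ∈ genS g.toGood F (Set.Ico (k + 1) T.n) := by
      have h4 : xg g.toGood k (χ * a - a) = z * (tor T F c * z * (tor T F c)⁻¹)⁻¹ := by
        rw [eq_mul_inv_iff_mul_eq, sub_eq_add_neg, add_comm, ← xg_add, mul_assoc, h1, ← mul_assoc,
          xg_add, neg_add_cancel, xg_zero, one_mul]
      rw [h4]
      exact mul_mem hz (inv_mem hz')
    have h5 := lowest_coeff g.toGood hk hkn h3
    have ha : a = 0 := by
      have h6 : (χ - 1) * a = 0 := by linear_combination h5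
      rcases mul_eq_zero.1 h6 with h7 | h7
      · exact absurd (Units.ext (by rw [Units.val_one]; exact sub_eq_zero.1 h7)) (hc k hk hkn)
      · exact h7
    subst ha
    rw [xg_zero, one_mul] at e
    subst e
    exact ih (k + 1) (by omega) (by omega) u hz hcomm

/-- A torus element moved by every Weyl word has the torus as its centraliser. -/
theorem exists_tor_of_commute' (g : T.GoodA) {c : ℕ → Fˣ}
    (hstab : ∀ L, T.Wd L → (∀ s < T.n, wt T F c (T.rw' L s) = wt T F c s) →
      ∀ s < T.n, T.rw' L s = s)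
    (hne : ∀ s < T.n, wt T F c s ≠ 1)
    {x : GL T.D.Idx F} (hx : x ∈ T.D.group F) (hcomm : Commute (tor T F c) x) :
    ∃ d, x = tor T F d := by
  have hg := g.toGood
  obtain ⟨b, hb, n, hn, L, hL, ⟨d, hd⟩, u, hu, hx'⟩ := bruhat_exists g hx
  let t : GL T.D.Idx F := tor T F c
  obtain ⟨e, he⟩ := wSub_conj_torus hg (nWd_mem_wSub (F := F) hg hL) c⁻¹
  rw [map_inv] at he
  have hn' : n * t⁻¹ * n⁻¹ = tor T F e := by
    rw [hd, show tor T F d * nWd hg F L * t⁻¹ * (tor T F d * nWd hg F L)⁻¹ =
      tor T F d * (nWd hg F L * t⁻¹ * (nWd hg F L)⁻¹) * (tor T F d)⁻¹ by group, he, ← map_inv,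
      ← map_mul, ← map_mul, mul_right_comm, mul_inv_cancel, one_mul]
  let b' : GL T.D.Idx F := t * b * t⁻¹ * (t * tor T F e)
  have hb' : b' ∈ T.D.borelSubgroup F :=
    mul_mem (mul_mem (mul_mem (torus_le_borel hg c) hb) (inv_mem (torus_le_borel hg c)))
      (mul_mem (torus_le_borel hg c) (torus_le_borel hg e))
  let u' : GL T.D.Idx F := t * u * t⁻¹
  have hu' : u' ∈ uMinus hg F L := (Subgroup.mem_normalizer_iff.1
    (tor_normalizes hg (fun r hr => hr.2.1) c) u).1 hu
  have hxe : b * n * u = b' * n * u' := by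
    rw [← hx']
    have : t * x * t⁻¹ = x := by rw [hcomm.eq, mul_inv_cancel_right]
    conv_lhs => rw [← this, hx']
    show _ = t * b * t⁻¹ * (t * tor T F e) * n * (t * u * t⁻¹)
    rw [← hn']
    group
  obtain ⟨hbb, huu⟩ := (bruhat_unique g hb hb' hn hn hL hd hu hu' hxe).2 rfl rfl
  have hne' : ∀ s, T.N ≤ s → s < T.n → wt T F c s ≠ 1 := fun s _ hs => hne s hs
  have hu1 : u = 1 := eq_one_of_commute_tor g hne' T.n T.N le_rfl (by omega) u
    (uMinus_le_pos hg L hu) (mul_inv_eq_iff_eq_mul.1 huu.symm)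
  obtain ⟨v, hv, d', rfl⟩ := (mem_borel_iff hg).1 hb
  have hv' : t * v * t⁻¹ ∈ genS hg F (Set.Ico T.N T.n) :=
    (Subgroup.mem_normalizer_iff.1 (tor_normalizes hg (fun r hr => hr.2) c) v).1 hv
  have hsplit : v * tor T F d' = (t * v * t⁻¹) * (tor T F (d' * c * e)) := by
    calc v * tor T F d' = b' := hbb
      _ = _ := by
        show t * (v * tor T F d') * t⁻¹ * (t * tor T F e) = _
        rw [map_mul, map_mul]
        have hc' : Commute t (tor T F d') := (Commute.all c d').map _
        calc _ = t * v * (tor T F d' * tor T F e) := by group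
          _ = t * v * t⁻¹ * (t * tor T F d' * tor T F e) := by group
          _ = _ := by rw [hc'.eq]
  have h1 : (t * v * t⁻¹)⁻¹ * v = 1 := by
    refine pos_inf_torus hg (mul_mem (inv_mem hv') hv) ?_
    rw [diagonalSubgroup_eq hg]
    exact ⟨d' * c * e / d', by
      rw [map_div, eq_inv_mul_iff_mul_eq, div_eq_mul_inv, ← mul_assoc, ← hsplit,
        mul_inv_cancel_right]⟩
  have hvv : t * v * t⁻¹ = v := (inv_mul_eq_one.1 h1)
  have hv1 : v = 1 := eq_one_of_commute_tor g hne' T.n T.N le_rfl (by omega) v hv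
    (mul_inv_eq_iff_eq_mul.1 hvv)
  have hce : t * tor T F e = 1 := by
    rw [hvv] at hsplit
    have := mul_left_cancel hsplit
    rw [map_mul, map_mul, mul_assoc] at this
    simpa using this.symm
  have hn'' : nWd hg F L * t * (nWd hg F L)⁻¹ = t := by
    have h2 : tor T F e = t⁻¹ := eq_inv_of_mul_eq_one_right hce
    have h3 := congrArg (·⁻¹) (he.trans h2)
    simpa [mul_assoc] using h3
  have hfix : ∀ s < T.n, T.rw' L s = s := fun s hs => by
    refine hstab L hL (fun s hs => ?_) s hs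
    obtain ⟨a, ha⟩ := nWd_col (F := F) hg hL hs
    have h4 := congrArg (fun X : GL T.D.Idx F =>
      (X : Matrix T.D.Idx T.D.Idx F) *ᵥ bas T F (T.l + s)) (mul_inv_eq_iff_eq_mul.1 hn'')
    simp only [t, Units.val_mul, ← mulVec_mulVec, tor_apply, dg_col_root hg, mulVec_smul, ha,
      smul_smul] at h4
    obtain ⟨q, hq⟩ := exists_code hg (show T.l + T.rw' L s < T.l + T.n by
      have := rw'_lt hg hL hs; omega)
    have h5 := congrFun h4 q
    simp only [Pi.smul_apply, smul_eq_mul, bas, hq, if_true, mul_one] at h5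
    refine Units.ext (mul_left_cancel₀ a.ne_zero ?_)
    linear_combination -h5
  obtain ⟨f, hf⟩ := (nWd_torus_of_pos (F := F) hg L.length le_rfl hL
    (fun s h1 h2 => by rw [hfix s h2]; exact h1)).1
  exact ⟨d' * (d * f), by rw [hx', hv1, hu1, hd, hf, map_mul, map_mul, one_mul, mul_one]⟩

/-- A regular torus element has the torus as its centraliser. -/
theorem exists_tor_of_commute (g : T.GoodA) {c : ℕ → Fˣ}
    (hinj : ∀ r < T.n, ∀ s < T.n, wt T F c r = wt T F c s → r = s)
    (hne : ∀ s < T.n, wt T F c s ≠ 1)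
    {x : GL T.D.Idx F} (hx : x ∈ T.D.group F) (hcomm : Commute (tor T F c) x) :
    ∃ d, x = tor T F d :=
  exists_tor_of_commute' g
    (fun _ hL h s hs => hinj _ (rw'_lt g.toGood hL hs) _ hs (h s hs)) hne hx hcomm

end Cfsg.Agent.G2Torus
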