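import Mathlib.FieldTheory.Finite.Extension
import Mathlib.RingTheory.Norm.Basic
import Mathlib.LinearAlgebra.Matrix.SpecialLinearGroup
import Mathlib.LinearAlgebra.FreeModule.Finite.Matrix
import Mathlib.RingTheory.IntegralDomain
import Mathlib.FieldTheory.Minpoly.Field

/-! An element of order `q² + q + 1` in `SL₃(q)`, its centraliser and its diagonal form. -/

set_option autoImplicit false

namespace Cfsg.Agent.G2Torus

open Matrix

theorem pow_three_factor {q : ℕ} (hq : 1 ≤ q) : (q - 1) * (q ^ 2 + q + 1) = q ^ 3 - 1 := by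
  obtain ⟨k, rfl⟩ : ∃ k, q = k + 1 := ⟨q - 1, by omega⟩
  refine Eq.trans ?_ (congrArg (· - 1) (show k * ((k + 1) ^ 2 + (k + 1) + 1) + 1 = (k + 1) ^ 3 by ring))
  simp

/-- The properties of a Singer element used in the computation of its centraliser. -/
theorem exists_singer {F : Type*} [Field F] [Fintype F] (q : ℕ) (hF : Fintype.card F = q) :
    ∃ (K : Type) (_ : Field K) (φ : F →+* K) (A : SpecialLinearGroup (Fin 3) F)
      (P : SpecialLinearGroup (Fin 3) K) (μ : Kˣ),
      orderOf A = q ^ 2 + q + 1 ∧ orderOf μ = q ^ 2 + q + 1 ∧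
      (P * SpecialLinearGroup.map φ A * P⁻¹ : Matrix (Fin 3) (Fin 3) K) =
        diagonal ![(μ : K), (μ : K) ^ q, (μ : K) ^ q ^ 2] ∧
      ∀ B : SpecialLinearGroup (Fin 3) F, Commute A B → ∃ i : ℕ, A ^ i = B := by
  classical
  obtain ⟨p, hp⟩ := CharP.exists F
  haveI : Fact p.Prime := ⟨CharP.char_is_prime F p⟩
  haveI : Finite F := Finite.of_fintype F
  let E := FiniteField.Extension F p 3
  haveI : Fintype E := Fintype.ofFinite E
  have hcE : Fintype.card E = q ^ 3 := by
    rw [← Nat.card_eq_fintype_card, FiniteField.natCard_extension, Nat.card_eq_fintype_card, hF]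
  have hq : 2 ≤ q := hF ▸ Fintype.one_lt_card
  have hdim : Module.finrank F E = 3 := FiniteField.finrank_extension F p 3
  set N := q ^ 2 + q + 1 with hN
  obtain ⟨g, hg⟩ := IsCyclic.exists_generator (α := Eˣ)
  have hog : orderOf g = (q - 1) * N := by
    rw [orderOf_eq_card_of_forall_mem_zpowers hg, Nat.card_units, Nat.card_eq_fintype_card, hcE,
      hN, pow_three_factor (by omega)]
  set θ := g ^ (q - 1) with hθ
  have hoθ : orderOf θ = N := by
    rw [hθ, orderOf_pow_of_dvd (by omega) (by rw [hog]; exact dvd_mul_right _ _), hog,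
      Nat.mul_div_cancel_left _ (by omega)]
  have hnormθ : Algebra.norm F (θ : E) = 1 := by
    have h0 : Algebra.norm F (g : E) ≠ 0 := Algebra.norm_ne_zero_iff.2 g.ne_zero
    rw [hθ, Units.val_pow_eq_pow_val, map_pow, ← hF, FiniteField.pow_card_sub_one_eq_one _ h0]
  have hnorm : ∀ y : E, algebraMap F E (Algebra.norm F y) = y ^ N := by
    intro y
    rw [FiniteField.algebraMap_norm_eq_pow, Nat.card_eq_fintype_card, Nat.card_eq_fintype_card, hF, hcE,
      ← pow_three_factor (show 1 ≤ q by omega),
      Nat.mul_div_cancel_left _ (by omega)]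
  let b : Module.Basis (Fin 3) F E := (Module.finBasisOfFinrankEq F E hdim)
  let M : E →ₐ[F] Matrix (Fin 3) (Fin 3) F := Algebra.leftMulMatrix b
  have hMinj : Function.Injective M := Algebra.leftMulMatrix_injective b
  have hdet : (M (θ : E)).det = 1 := by rw [← Algebra.norm_eq_matrix_det, hnormθ]
  let A : SpecialLinearGroup (Fin 3) F := ⟨M (θ : E), hdet⟩
  have hApow : ∀ i : ℕ, ((A ^ i : SpecialLinearGroup (Fin 3) F) : Matrix (Fin 3) (Fin 3) F) =
      M ((θ : E) ^ i) := fun i => by rw [SpecialLinearGroup.coe_pow, map_pow]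
  have hoA : orderOf A = N := by
    rw [← hoθ, orderOf_eq_orderOf_iff]
    intro i
    refine Subtype.ext_iff.trans ?_
    rw [hApow, SpecialLinearGroup.coe_one, ← map_one M, hMinj.eq_iff,
      ← Units.val_pow_eq_pow_val, Units.val_eq_one]
  have hfrob : ∀ k : ℕ, ∃ σ : E →ₐ[F] E, ∀ y, σ y = y ^ q ^ k := by
    intro k
    refine ⟨(FiniteField.frobeniusAlgHom F E) ^ k, fun y => ?_⟩
    induction k with
    | zero => simp
    | succ k ih =>
      rw [pow_succ', AlgHom.mul_apply, ih, FiniteField.frobeniusAlgHom_apply, ← pow_mul, pow_succ,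
        Fintype.card_eq_nat_card, Nat.card_eq_fintype_card, hF]
  choose σ hσ using hfrob
  let Q : Matrix (Fin 3) (Fin 3) E := Matrix.of fun k i => σ k.val (b i)
  let AK : Matrix (Fin 3) (Fin 3) E := (M (θ : E)).map (algebraMap F E)
  have hQA : Q * AK = diagonal (fun k : Fin 3 => (θ : E) ^ q ^ k.val) * Q := by
    ext k j
    rw [Matrix.mul_apply, Matrix.diagonal_mul]
    show (∑ i, σ k.val (b i) * algebraMap F E (M (θ : E) i j)) = _
    rw [show Q k j = σ k.val (b j) from rfl, ← hσ k.val (θ : E), ← map_mul]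
    conv_rhs => rw [← b.sum_repr ((θ : E) * b j), map_sum]
    refine Finset.sum_congr rfl fun i _ => ?_
    rw [map_smul, Algebra.smul_def, mul_comm]
    congr 2
    exact Algebra.leftMulMatrix_eq_repr_mul b (θ : E) i j
  have hQdet : Q.det ≠ 0 := by
    intro h0
    obtain ⟨v, hv0, hv⟩ := Matrix.exists_vecMul_eq_zero_iff.2 h0
    have hli : LinearIndependent E (fun k : Fin 3 => ((σ k.val : E →* E) : E → E)) := by
      refine (linearIndependent_monoidHom E E).comp (fun k : Fin 3 => (σ k.val : E →* E))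
        fun k l hkl => ?_
      have h1 := DFunLike.congr_fun hkl (θ : E)
      simp only [MonoidHom.coe_coe, hσ] at h1
      have h2 : θ ^ q ^ k.val = θ ^ q ^ l.val := Units.ext (by
        rw [Units.val_pow_eq_pow_val, Units.val_pow_eq_pow_val]; exact h1)
      rw [pow_eq_pow_iff_modEq, hoθ, Nat.ModEq] at h2
      have hlt : ∀ m : Fin 3, q ^ m.val < N := fun m => by
        have : q ^ m.val ≤ q ^ 2 := Nat.pow_le_pow_right (by omega) (by omega)
        omega
      rw [Nat.mod_eq_of_lt (hlt k), Nat.mod_eq_of_lt (hlt l)] at h2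
      exact Fin.ext (Nat.pow_right_injective hq h2)
    refine hv0 (funext fun k => ?_)
    refine (Fintype.linearIndependent_iff.1 hli) v ?_ k
    have hz : ∀ i, ∑ k, v k * σ k.val (b i) = 0 := fun i => congrFun hv i
    funext y
    simp only [Finset.sum_apply, Pi.smul_apply, smul_eq_mul, MonoidHom.coe_coe, Pi.zero_apply]
    calc ∑ k, v k * σ k.val y = ∑ k, ∑ i, b.repr y i • (v k * σ k.val (b i)) := by
          refine Finset.sum_congr rfl fun k _ => ?_
          conv_lhs => rw [← b.sum_repr y, map_sum]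
          rw [Finset.mul_sum]
          exact Finset.sum_congr rfl fun i _ => by rw [map_smul, mul_smul_comm]
      _ = ∑ i, ∑ k, b.repr y i • (v k * σ k.val (b i)) := Finset.sum_comm
      _ = 0 := Finset.sum_eq_zero fun i _ => by rw [← Finset.smul_sum, hz i, smul_zero]
  let D0 : Matrix (Fin 3) (Fin 3) E := diagonal ![Q.det⁻¹, 1, 1]
  have hPdet : (D0 * Q).det = 1 := by
    simp [D0, Matrix.det_mul, Matrix.det_diagonal, Fin.prod_univ_three]
    exact inv_mul_cancel₀ hQdet
  let P : SpecialLinearGroup (Fin 3) E := ⟨D0 * Q, hPdet⟩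
  refine ⟨E, inferInstance, algebraMap F E, A, P, θ, hoA, hoθ, ?_, ?_⟩
  · have hd : (fun k : Fin 3 => (θ : E) ^ q ^ k.val) =
        ![(θ : E), (θ : E) ^ q, (θ : E) ^ q ^ 2] := by
      funext k; fin_cases k <;> simp
    have h1 : ((P : Matrix (Fin 3) (Fin 3) E)) * AK =
        diagonal (fun k : Fin 3 => (θ : E) ^ q ^ k.val) * (P : Matrix (Fin 3) (Fin 3) E) := by
      show D0 * Q * AK = _ * (D0 * Q)
      rw [Matrix.mul_assoc, hQA, ← Matrix.mul_assoc, ← Matrix.mul_assoc]
      simp only [D0, Matrix.diagonal_mul_diagonal, mul_comm]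
    rw [hd] at h1
    show (P : Matrix (Fin 3) (Fin 3) E) * AK * _ = _
    rw [h1, Matrix.mul_assoc, ← SpecialLinearGroup.coe_mul, mul_inv_cancel,
      SpecialLinearGroup.coe_one, Matrix.mul_one]
  · intro B hB
    have hBM : Commute (B : Matrix (Fin 3) (Fin 3) F) (M (θ : E)) :=
      (congrArg Subtype.val hB.eq).symm
    let f : E →ₗ[F] E := Matrix.toLin b b (B : Matrix (Fin 3) (Fin 3) F)
    have hMy : ∀ y z : E, Matrix.toLin b b (M y) z = y * z := fun y z => by
      simp [M, Algebra.leftMulMatrix_apply]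
    haveI : IsSimpleOrder (IntermediateField F E) :=
      IntermediateField.isSimpleOrder_of_finrank_prime F E (by rw [hdim]; exact Nat.prime_three)
    have htop : IntermediateField.adjoin F {(θ : E)} = ⊤ := by
      refine (IsSimpleOrder.eq_bot_or_eq_top _).resolve_left fun hbot => ?_
      have hmem : (θ : E) ∈ (⊥ : IntermediateField F E) :=
        hbot ▸ IntermediateField.mem_adjoin_simple_self F (θ : E)
      obtain ⟨a, ha⟩ := IntermediateField.mem_bot.1 hmem
      have ha0 : a ≠ 0 := by rintro rfl; rw [map_zero] at ha; exact θ.ne_zero ha.symm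
      have hle : θ ^ (q - 1) = 1 := Units.ext (by
        rw [Units.val_pow_eq_pow_val, ← ha, ← map_pow, ← hF,
          FiniteField.pow_card_sub_one_eq_one a ha0, map_one, Units.val_one])
      have := Nat.le_of_dvd (by omega) (orderOf_dvd_of_pow_eq_one hle)
      rw [hoθ] at this
      have : q - 1 < N := by rw [hN]; omega
      omega
    have hadj : Algebra.adjoin F {(θ : E)} = ⊤ := by
      rw [← IntermediateField.adjoin_simple_toSubalgebra_of_isAlgebraic
        (Algebra.IsAlgebraic.isAlgebraic (θ : E)), htop, IntermediateField.top_toSubalgebra]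
    let S : Subalgebra F E :=
      (Subalgebra.centralizer F {(B : Matrix (Fin 3) (Fin 3) F)}).comap M
    have hS : ∀ z : E, Commute (B : Matrix (Fin 3) (Fin 3) F) (M z) := by
      intro z
      have hle : Algebra.adjoin F {(θ : E)} ≤ S := Algebra.adjoin_le (by
        rintro _ rfl
        intro m hm
        rw [Set.mem_singleton_iff] at hm
        subst hm
        exact hBM.eq)
      exact hle (hadj.symm ▸ Algebra.mem_top) _ rfl
    have hB' : (B : Matrix (Fin 3) (Fin 3) F) = M (f 1) := by
      apply (Matrix.toLin b b).injective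
      refine LinearMap.ext fun z => ?_
      rw [hMy, mul_comm, ← hMy z (f 1)]
      show f z = _
      have h1 : f (Matrix.toLin b b (M z) 1) = Matrix.toLin b b (M z) (f 1) := by
        show Matrix.toLin b b _ (Matrix.toLin b b _ 1) = Matrix.toLin b b _ (Matrix.toLin b b _ 1)
        rw [← LinearMap.comp_apply, ← LinearMap.comp_apply, ← Matrix.toLin_mul, ← Matrix.toLin_mul,
          (hS z).eq]
      rw [hMy, mul_one] at h1
      exact h1
    have hy : (f 1) ^ N = 1 := by
      rw [← hnorm, Algebra.norm_eq_matrix_det b, ← show M = Algebra.leftMulMatrix b from rfl, ← hB',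
        B.2, map_one]
    let u : Eˣ := Units.ofPowEqOne (f 1) N hy (by omega)
    obtain ⟨j, hj⟩ : ∃ j : ℕ, g ^ j = u := by
      have := hg u
      rwa [← mem_powers_iff_mem_zpowers, Submonoid.mem_powers_iff] at this
    have huN : g ^ (j * N) = 1 := by
      rw [pow_mul, hj]
      exact Units.ext (by rw [Units.val_pow_eq_pow_val, Units.val_ofPowEqOne, hy, Units.val_one])
    have hdvd := orderOf_dvd_of_pow_eq_one huN
    rw [hog] at hdvd
    obtain ⟨i, rfl⟩ := Nat.eq_zero_or_pos N |>.elim (fun h => absurd h (by omega))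
      fun h => Nat.dvd_of_mul_dvd_mul_right h hdvd
    refine ⟨i, Subtype.ext ?_⟩
    rw [hApow, hB', ← Units.val_pow_eq_pow_val, hθ, ← pow_mul, hj, Units.val_ofPowEqOne]

end Cfsg.Agent.G2Torus
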