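import Cfsg.Agent.Lib.G2Torus.Roots

/-! Naturality of the action and the diagonal matrices. -/

set_option autoImplicit false
set_option maxRecDepth 8000
set_option maxHeartbeats 2000000

namespace Cfsg.Agent.G2Torus

open Matrix Cfsg.Lie Cfsg.Agent.Chev Cfsg.Agent.Chev.Tab

variable {F K : Type*} [Field F] [Field K] (φ : F →+* K)

theorem map_toTri (y : I14 → F) :
    toTri (fun i => φ (y i)) = ((toTri y).1.map φ, φ ∘ (toTri y).2.1, φ ∘ (toTri y).2.2) := by
  refine Prod.ext ?_ (Prod.ext ?_ ?_)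
  · ext i j; fin_cases i <;> fin_cases j <;> simp [toTri, map_ofNat]
  · ext i; fin_cases i <;> simp [toTri]
  · ext i; fin_cases i <;> simp [toTri]

theorem map_lin (A B : Matrix (Fin 3) (Fin 3) F) (y : I14 → F) :
    lin (A.map φ) (B.map φ) (fun i => φ (y i)) = fun i => φ (lin A B y i) := by
  simp only [lin, LinearMap.comp_apply, map_toTri]
  have h1 : (A * (toTri y).1 * B).map φ = A.map φ * (toTri y).1.map φ * B.map φ := by
    rw [Matrix.map_mul, Matrix.map_mul]
  have h2 : φ ∘ (A *ᵥ (toTri y).2.1) = A.map φ *ᵥ (φ ∘ (toTri y).2.1) :=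
    funext fun i => RingHom.map_mulVec φ A (toTri y).2.1 i
  have h3 : φ ∘ (Bᵀ *ᵥ (toTri y).2.2) = (B.map φ)ᵀ *ᵥ (φ ∘ (toTri y).2.2) :=
    funext fun i => RingHom.map_mulVec φ Bᵀ (toTri y).2.2 i
  have g1 : ∀ i j, φ ((A * (toTri y).1 * B) i j) =
      (A.map φ * (toTri y).1.map φ * B.map φ) i j := fun i j => congrFun (congrFun h1 i) j
  have g2 : ∀ i, φ ((A *ᵥ (toTri y).2.1) i) = (A.map φ *ᵥ (φ ∘ (toTri y).2.1)) i := congrFun h2
  have g3 : ∀ i, φ ((Bᵀ *ᵥ (toTri y).2.2) i) = ((B.map φ)ᵀ *ᵥ (φ ∘ (toTri y).2.2)) i := congrFun h3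
  simp only [act, LinearMap.coe_mk, AddHom.coe_mk]
  funext i
  rcases i with i | i <;> fin_cases i <;> simp [ofTri, g1, g2, g3]

theorem rho_map (A : Matrix.SpecialLinearGroup (Fin 3) F) :
    rho (Matrix.SpecialLinearGroup.map φ A) = Units.map φ.mapMatrix.toMonoidHom (rho A) := by
  refine Units.ext (Matrix.ext fun (a b : I14) => ?_)
  show mat (Matrix.SpecialLinearGroup.map φ A) a b = φ (mat A a b)
  refine (mat_apply _ a b).trans (Eq.trans ?_ (congrArg φ (mat_apply A a b)).symm)
  rw [← map_inv]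
  have h := congrFun (map_lin φ (A : Matrix (Fin 3) (Fin 3) F) ↑(A⁻¹) (Pi.single b 1)) a
  have e : (fun i => φ ((Pi.single b 1 : I14 → F) i)) = Pi.single b 1 := by
    funext i; simp [Pi.single_apply, apply_ite φ]
  rw [e] at h
  exact h

theorem group_map {g : GL T.D.Idx F} (hg : g ∈ T.D.group F) :
    Units.map φ.mapMatrix.toMonoidHom g ∈ T.D.group K := by
  have hle : T.D.group F ≤ (T.D.group K).comap (Units.map φ.mapMatrix.toMonoidHom) := by
    refine (Subgroup.closure_le _).2 ?_
    rintro x ⟨r, t, hx⟩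
    refine Subgroup.subset_closure ⟨r, φ t, ?_⟩
    show ((x : Matrix T.D.Idx T.D.Idx F)).map φ = _
    rw [hx]
    ext a b
    simp only [Matrix.map_apply, ChevalleyDatum.xMat, Matrix.of_apply]
    rcases a with a | a <;> rcases b with b | b <;>
      simp only <;> (repeat' split) <;>
      simp_all [map_list_sum, Function.comp_def]
  exact hle hg

/-- The entries of the natural module inside the image. -/
def nat3 : Fin 3 → I14 := ![.inr 8, .inr 7, .inr 2]

theorem mat_nat3 (A : Matrix.SpecialLinearGroup (Fin 3) F) (i j : Fin 3) :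
    mat A (nat3 i) (nat3 j) = (A : Matrix (Fin 3) (Fin 3) F) i j := by
  rw [mat_apply]
  fin_cases i <;> fin_cases j <;>
    simp [nat3, lin, act, toTri, ofTri, Matrix.mulVec, dotProduct, Fin.sum_univ_three]

theorem rho_injective : Function.Injective (rho (F := F)) := by
  intro A B h
  refine Subtype.ext (Matrix.ext fun i j => ?_)
  have h' := congrArg (fun X : GL chevG2.Idx F =>
    (X : Matrix chevG2.Idx chevG2.Idx F) (nat3 i) (nat3 j)) h
  simp only [rho_val, mat_nat3] at h'
  exact h'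

variable (F) in
/-- The diagonal matrix belonging to torus parameters. -/
noncomputable def dmat (c : ℕ → Fˣ) : Matrix (Fin 3) (Fin 3) F :=
  diagonal ![(c 1 : F) / c 0, (c 0 : F) ^ 2 / c 1, (c 0 : F)⁻¹]

theorem det_dmat (c : ℕ → Fˣ) : (dmat F c).det = 1 := by
  have h0 := (c 0).ne_zero
  have h1 := (c 1).ne_zero
  simp [dmat, Matrix.det_diagonal, Fin.prod_univ_three]
  field_simp

/-- The element of `SL₃` belonging to torus parameters. -/
noncomputable def dSL (c : ℕ → Fˣ) : Matrix.SpecialLinearGroup (Fin 3) F := ⟨dmat F c, det_dmat c⟩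

/-- The Cartan integers of the roots. -/
def cart0 : Fin 12 → ℤ := ![0, -3, -1, 1, -2, 3, -3, 2, -1, 1, 3, 0]

/-- The Cartan integers of the roots. -/
def cart1 : Fin 12 → ℤ := ![-1, 1, 0, -1, 1, -2, 2, -1, 1, 0, -1, 1]

theorem wt_eq (c : ℕ → Fˣ) (s : Fin 12) :
    wt T F c s.val = c 0 ^ cart0 s * c 1 ^ cart1 s := by
  have h0 : ∀ s : Fin 12, T.A 0 s.val = cart0 s := by decide +kernel
  have h1 : ∀ s : Fin 12, T.A 1 s.val = cart1 s := by decide +kernel
  rw [wt, show T.l = 2 from rfl, Finset.prod_range_succ, Finset.prod_range_one, h0 s, h1 s]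

theorem rho_dSL (c : ℕ → Fˣ) : rho (dSL c) = tor T F c := by
  have hinv : ((dSL c)⁻¹ : Matrix.SpecialLinearGroup (Fin 3) F) = dSL c⁻¹ := by
    refine inv_eq_of_mul_eq_one_right (Subtype.ext ?_)
    show dmat F c * dmat F c⁻¹ = 1
    rw [dmat, dmat, Matrix.diagonal_mul_diagonal, ← Matrix.diagonal_one]
    congr 1
    funext i
    have h0 := (c 0).ne_zero
    have h1 := (c 1).ne_zero
    fin_cases i <;> simp [Pi.inv_apply, Units.val_inv_eq_inv_val] <;> field_simp
  let w : I14 → F := fun i => i.elim (fun _ => 1) fun s => ((wt T F c s.val : Fˣ) : F)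
  have hlin : ∀ y : I14 → F, lin (dmat F c) (dmat F c⁻¹) y = fun i => w i * y i := by
    intro y
    have h0 := (c 0).ne_zero
    have h1 := (c 1).ne_zero
    funext i
    rcases i with i | i
    · simp only [w, Sum.elim_inl, one_mul]
      fin_cases i <;>
        simp [lin, act, toTri, ofTri, dmat, Matrix.diagonal_mul,
          Matrix.mul_diagonal, Pi.inv_apply, Units.val_inv_eq_inv_val] <;>
        field_simp <;> ring
    · simp only [w, Sum.elim_inr]
      rw [wt_eq]
      fin_cases i <;>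
        simp [lin, act, toTri, ofTri, dmat, cart0, cart1, Matrix.mulVec_diagonal,
          Matrix.diagonal_mul, Matrix.mul_diagonal, Pi.inv_apply, Units.val_inv_eq_inv_val,
          Units.val_zpow_eq_zpow_val, _root_.zpow_neg, zpow_natCast] <;>
        field_simp <;> first | ring1 | (ring_nf; simp)
  refine Units.ext (Matrix.ext fun (a b : I14) => ?_)
  rw [rho_val, tor_apply, dg_val]
  show mat (dSL c) a b = diagonal w a b
  refine (mat_apply _ a b).trans ?_
  rw [hinv]
  show lin (dmat F c) (dmat F c⁻¹) _ _ = _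
  rw [hlin, Matrix.diagonal_apply]
  show w a * (Pi.single b 1 : I14 → F) a = _
  rw [Pi.single_apply]
  split_ifs <;> simp_all

end Cfsg.Agent.G2Torus
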