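import Cfsg.Agent.Lib.G2Torus.Diag
import Cfsg.Agent.Lib.G2Torus.Regular
import Cfsg.Agent.Lib.G2Torus.Singer

/-! The self-centralising cyclic torus of order `q² + q + 1` of G2. -/

set_option autoImplicit false
set_option maxRecDepth 8000
set_option maxHeartbeats 2000000

namespace Cfsg.Agent.G2Torus

open Matrix Cfsg.Lie Cfsg.Agent.Chev Cfsg.Agent.Chev.Tab

/-- the reduced exponents of the weights: constant and linear term -/
def ex : Fin 12 → ℤ × ℤ :=
  ![(-2, -1), (-1, -2), (-1, -1), (-1, 0), (0, -1), (-1, 1), (1, -1), (0, 1), (1, 0), (1, 1),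
    (1, 2), (2, 1)]

theorem ex_distinct (q : ℕ) (hq : 3 ≤ q) :
    (∀ r s : Fin 12, ((q ^ 2 + q + 1 : ℕ) : ℤ) ∣
        ((ex r).1 + (ex r).2 * q) - ((ex s).1 + (ex s).2 * q) → r = s) ∧
      ∀ s : Fin 12, ¬ ((q ^ 2 + q + 1 : ℕ) : ℤ) ∣ (ex s).1 + (ex s).2 * q := by
  rcases eq_or_lt_of_le hq with rfl | hq'
  · decide +kernel
  · have hN : 4 * (q : ℤ) + 3 ≤ ((q ^ 2 + q + 1 : ℕ) : ℤ) := by
      have h : (4 : ℤ) * q ≤ (q : ℤ) * q := by
        have : (4 : ℤ) ≤ q := by exact_mod_cast hq'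
        exact mul_le_mul_of_nonneg_right this (by positivity)
      push_cast
      have : (2 : ℤ) ≤ q := by exact_mod_cast (by omega : 2 ≤ q)
      nlinarith
    refine ⟨fun r s h => ?_, fun s h => ?_⟩
    · have h0 : (ex r).1 + (ex r).2 * q - ((ex s).1 + (ex s).2 * q) = 0 := by
        refine Int.eq_zero_of_abs_lt_dvd h (lt_of_le_of_lt ?_ (lt_of_lt_of_le (show
          4 * (q : ℤ) + 2 < 4 * q + 3 by omega) hN))
        rw [abs_le]
        fin_cases r <;> fin_cases s <;> simp [ex] <;> omega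
      fin_cases r <;> fin_cases s <;> first | rfl | (exfalso; simp [ex] at h0 <;> omega)
    · have h0 : (ex s).1 + (ex s).2 * q = 0 := by
        refine Int.eq_zero_of_abs_lt_dvd h (lt_of_le_of_lt ?_ (lt_of_lt_of_le (show
          4 * (q : ℤ) + 2 < 4 * q + 3 by omega) hN))
        rw [abs_le]
        fin_cases s <;> simp [ex] <;> omega
      fin_cases s <;> simp [ex] at h0 <;> omega

variable {F : Type*} [Field F]

/-- The Singer torus of G2 is self-centralising. -/
theorem main [Fintype F] (q : ℕ) (hF : Fintype.card F = q) (hq : 3 ≤ q) :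
    ∃ H : Subgroup ↥(chevG2.group F), IsCyclic ↥H ∧ Nat.card ↥H = q ^ 2 + q + 1 ∧
      Subgroup.centralizer (H : Set ↥(chevG2.group F)) = H := by
  classical
  obtain ⟨K, _, φ, A, P, μ, hA, hμ, hdiag, hcent⟩ := exists_singer q hF
  let x : ↥(chevG2.group F) := ⟨rho A, rho_mem_group A⟩
  have hx : orderOf x = q ^ 2 + q + 1 := by
    rw [← hA, ← Subgroup.orderOf_coe x]
    exact orderOf_injective rho rho_injective A
  refine ⟨Subgroup.zpowers x, Subgroup.isCyclic_zpowers x, (Nat.card_zpowers x).trans hx, le_antisymm ?_ ?_⟩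
  swap
  · intro y hy
    rw [Subgroup.mem_centralizer_iff]
    intro h hh
    obtain ⟨i, rfl⟩ := Subgroup.mem_zpowers_iff.1 hy
    obtain ⟨j, rfl⟩ := Subgroup.mem_zpowers_iff.1 hh
    exact ((Commute.refl x).zpow_zpow j i).eq
  intro y hy
  have hxy : Commute x y := Subgroup.mem_centralizer_iff.1 hy x (Subgroup.mem_zpowers x)
  set N : ℕ := q ^ 2 + q + 1 with hN
  let c : ℕ → Kˣ := fun j => if j = 0 then μ ^ (-((q : ℤ) ^ 2)) else μ ^ (1 - (q : ℤ) ^ 2)
  have hzp : ∀ a b : ℤ, μ ^ a = μ ^ b ↔ ((N : ℕ) : ℤ) ∣ a - b := fun a b => by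
    rw [← hμ, orderOf_dvd_sub_iff_zpow_eq_zpow]
  have hw : ∀ s : Fin 12, wt T K c s.val = μ ^ ((ex s).1 + (ex s).2 * (q : ℤ)) := fun s => by
    rw [wt_eq, show c 0 = μ ^ (-((q : ℤ) ^ 2)) from rfl, show c 1 = μ ^ (1 - (q : ℤ) ^ 2) from rfl,
      ← _root_.zpow_mul, ← _root_.zpow_mul, ← _root_.zpow_add, hzp, hN]
    push_cast
    fin_cases s <;> simp [ex, cart0, cart1] <;>
      first | exact ⟨0, by ring1⟩ | exact ⟨1, by ring1⟩ | exact ⟨-1, by ring1⟩ | exact ⟨2, by ring1⟩ |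
        exact ⟨-2, by ring1⟩
  have hD : P * Matrix.SpecialLinearGroup.map φ A * P⁻¹ = dSL c := by
    refine Subtype.ext ?_
    rw [Matrix.SpecialLinearGroup.coe_mul, Matrix.SpecialLinearGroup.coe_mul]
    refine hdiag.trans ?_
    show _ = dmat K c
    rw [dmat]
    congr 1
    funext i
    have e0 : (c 1 : Kˣ) / c 0 = μ := by
      rw [show c 0 = μ ^ (-((q : ℤ) ^ 2)) from rfl, show c 1 = μ ^ (1 - (q : ℤ) ^ 2) from rfl,
        div_eq_mul_inv, ← _root_.zpow_sub, show (1 - (q : ℤ) ^ 2 - -(q : ℤ) ^ 2) = 1 by ring, _root_.zpow_one]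
    have e1 : (c 0 : Kˣ) ^ 2 / c 1 = μ ^ q := by
      rw [show c 0 = μ ^ (-((q : ℤ) ^ 2)) from rfl, show c 1 = μ ^ (1 - (q : ℤ) ^ 2) from rfl,
        ← zpow_natCast, ← _root_.zpow_mul, div_eq_mul_inv, ← _root_.zpow_sub, ← zpow_natCast μ q, hzp, hN]
      push_cast
      exact ⟨-1, by ring1⟩
    have e2 : (c 0 : Kˣ)⁻¹ = μ ^ (q ^ 2) := by
      rw [show c 0 = μ ^ (-((q : ℤ) ^ 2)) from rfl, ← _root_.zpow_neg, _root_.neg_neg, ← zpow_natCast,
        Nat.cast_pow]
    have v0 := congrArg Units.val e0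
    have v1 := congrArg Units.val e1
    have v2 := congrArg Units.val e2
    simp only [Units.val_div_eq_div_val, Units.val_pow_eq_pow_val, Units.val_inv_eq_inv_val]
      at v0 v1 v2
    fin_cases i <;> simp [v0, v1, v2]
  let ψ : GL chevG2.Idx F →* GL chevG2.Idx K := Units.map φ.mapMatrix.toMonoidHom
  let z : GL chevG2.Idx K := rho P * ψ (y : GL chevG2.Idx F) * (rho P)⁻¹
  have hz : z ∈ chevG2.group K :=
    mul_mem (mul_mem (rho_mem_group P) (group_map φ y.2)) (inv_mem (rho_mem_group P))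
  have hzc : Commute (tor T K c) z := by
    have h1 : Commute (rho A) (y : GL chevG2.Idx F) := congrArg Subtype.val hxy.eq
    have h2 : Commute (rho (Matrix.SpecialLinearGroup.map φ A)) (ψ (y : GL chevG2.Idx F)) := by
      rw [rho_map φ A]; exact h1.map ψ
    rw [← rho_dSL, ← hD, map_mul, map_mul, map_inv]
    exact (Commute.conj_iff (rho P)).2 h2
  have hex := ex_distinct q hq
  obtain ⟨d, hd⟩ := exists_tor_of_commute gA (c := c)
    (fun r hr s hs h => by
      have hr' : r < 12 := hr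
      have hs' : s < 12 := hs
      have e := hw ⟨r, hr'⟩
      rw [h, hw ⟨s, hs'⟩, hzp] at e
      exact congrArg Fin.val (hex.1 _ _ e).symm)
    (fun s hs h => by
      have hs' : s < 12 := hs
      have e := hw ⟨s, hs'⟩
      rw [h, ← _root_.zpow_zero μ, hzp, zero_sub, dvd_neg] at e
      exact hex.2 _ e) hz hzc
  let B : Matrix.SpecialLinearGroup (Fin 3) K := P⁻¹ * dSL d * P
  have hyB : ψ (y : GL chevG2.Idx F) = rho B := by
    rw [map_mul, map_mul, map_inv, rho_dSL, ← hd]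
    show _ = (rho P)⁻¹ * (rho P * ψ (y : GL chevG2.Idx F) * (rho P)⁻¹) * rho P
    group
  let B0 : Matrix (Fin 3) (Fin 3) F := fun i j =>
    ((y : GL chevG2.Idx F) : Matrix chevG2.Idx chevG2.Idx F) (nat3 i) (nat3 j)
  have hB0 : B0.map φ = (B : Matrix (Fin 3) (Fin 3) K) := by
    ext i j
    rw [Matrix.map_apply, ← mat_nat3 B i j]
    exact congrArg (fun X : GL chevG2.Idx K => (X : Matrix chevG2.Idx chevG2.Idx K) (nat3 i) (nat3 j)) hyB
  have hdet : B0.det = 1 := φ.injective (by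
    rw [RingHom.map_det, map_one, RingHom.mapMatrix_apply, hB0, B.2])
  let B1 : Matrix.SpecialLinearGroup (Fin 3) F := ⟨B0, hdet⟩
  have hy1 : rho B1 = (y : GL chevG2.Idx F) := by
    have hB1 : Matrix.SpecialLinearGroup.map φ B1 = B := Subtype.ext hB0
    refine Units.ext (Matrix.map_injective φ.injective ?_)
    have := congrArg Units.val ((rho_map φ B1).symm.trans (hB1 ▸ hyB.symm))
    exact this
  have hcomm1 : Commute A B1 := rho_injective (by
    rw [map_mul, map_mul, hy1]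
    exact congrArg Subtype.val hxy.eq)
  obtain ⟨i, hi⟩ := hcent B1 hcomm1
  have hxi : x ^ i = y := Subtype.ext (by
    show (rho A) ^ i = _
    rw [← map_pow, hi, hy1])
  exact hxi ▸ pow_mem (Subgroup.mem_zpowers x) i

end Cfsg.Agent.G2Torus
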