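import Cfsg.Prelude.Def_ChevG2
import Mathlib.LinearAlgebra.Matrix.ToLin
import Mathlib.LinearAlgebra.Matrix.SpecialLinearGroup

/-!
The subgroup of type A2 on the long roots of G2: the explicit action of `SL₃` on the fourteen
dimensional module, split as the adjoint module, the natural module and its dual.
-/

set_option autoImplicit false
set_option maxRecDepth 8000

namespace Cfsg.Agent.G2Torus

open Matrix Cfsg.Lie

variable {F : Type*} [Field F]

/-- Coordinates of the fourteen dimensional space. -/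
abbrev I14 : Type := Fin 2 ⊕ Fin 12

/-- The three summands. -/
abbrev Tri (F : Type*) : Type _ := Matrix (Fin 3) (Fin 3) F × (Fin 3 → F) × (Fin 3 → F)

/-- From coordinates to the three summands. -/
def toTri : (I14 → F) →ₗ[F] Tri F where
  toFun y :=
    (!![y (.inl 1) - y (.inl 0), y (.inr 6), y (.inr 11);
        y (.inr 5), 2 * y (.inl 0) - y (.inl 1), y (.inr 10);
        y (.inr 0), y (.inr 1), -y (.inl 0)],
      ![y (.inr 8), y (.inr 7), y (.inr 2)], ![y (.inr 3), y (.inr 4), y (.inr 9)])
  map_add' x y := by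
    refine Prod.ext ?_ (Prod.ext ?_ ?_)
    · ext i j; fin_cases i <;> fin_cases j <;> simp <;> ring
    · ext i; fin_cases i <;> simp
    · ext i; fin_cases i <;> simp
  map_smul' c y := by
    refine Prod.ext ?_ (Prod.ext ?_ ?_)
    · ext i j; fin_cases i <;> fin_cases j <;> simp <;> ring
    · ext i; fin_cases i <;> simp
    · ext i; fin_cases i <;> simp

/-- The coordinates of a triple. -/
def ofTri : Tri F →ₗ[F] (I14 → F) where
  toFun T := Sum.elim ![-T.1 2 2, T.1 0 0 - T.1 2 2]
    ![T.1 2 0, T.1 2 1, T.2.1 2, T.2.2 0, T.2.2 1, T.1 1 0,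
      T.1 0 1, T.2.1 1, T.2.1 0, T.2.2 2, T.1 1 2, T.1 0 2]
  map_add' x y := by
    funext i; rcases i with i | i <;> fin_cases i <;> simp <;> ring
  map_smul' c y := by
    funext i; rcases i with i | i <;> fin_cases i <;> simp <;> ring

theorem ofTri_toTri (y : I14 → F) : ofTri (toTri y) = y := by
  funext i; rcases i with i | i <;> fin_cases i <;> simp [ofTri, toTri]

theorem toTri_ofTri {T : Tri F} (h : T.1.trace = 0) : toTri (ofTri T) = T := by
  have h' : T.1 0 0 + T.1 1 1 + T.1 2 2 = 0 := by rw [← h, Matrix.trace_fin_three]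
  refine Prod.ext ?_ (Prod.ext ?_ ?_)
  · ext i j; fin_cases i <;> fin_cases j <;> simp [ofTri, toTri]
    linear_combination -h'
  · ext i; fin_cases i <;> simp [ofTri, toTri]
  · ext i; fin_cases i <;> simp [ofTri, toTri]

theorem trace_toTri (y : I14 → F) : (toTri y).1.trace = 0 := by
  simp [toTri, Matrix.trace_fin_three]; ring

/-- The action of a matrix with a given inverse on triples. -/
def act (A B : Matrix (Fin 3) (Fin 3) F) : Tri F →ₗ[F] Tri F where
  toFun T := (A * T.1 * B, A *ᵥ T.2.1, Bᵀ *ᵥ T.2.2)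
  map_add' x y := by
    refine Prod.ext ?_ (Prod.ext ?_ ?_) <;> simp [mul_add, add_mul, mulVec_add]
  map_smul' c y := by
    refine Prod.ext ?_ (Prod.ext ?_ ?_) <;> simp [mulVec_smul]

/-- The action in coordinates. -/
def lin (A B : Matrix (Fin 3) (Fin 3) F) : (I14 → F) →ₗ[F] (I14 → F) :=
  ofTri ∘ₗ act A B ∘ₗ toTri

theorem lin_one : lin (1 : Matrix (Fin 3) (Fin 3) F) 1 = LinearMap.id := by
  refine LinearMap.ext fun y => ?_
  simp [lin, act, ofTri_toTri]

theorem lin_mul {A B C D : Matrix (Fin 3) (Fin 3) F} (hDC : D * C = 1) :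
    lin A B ∘ₗ lin C D = lin (A * C) (D * B) := by
  refine LinearMap.ext fun y => ?_
  simp only [lin, LinearMap.comp_apply]
  have h : (act C D (toTri y)).1.trace = 0 := by
    show (C * (toTri y).1 * D).trace = 0
    rw [Matrix.trace_mul_cycle, hDC, Matrix.one_mul, trace_toTri]
  rw [toTri_ofTri h]
  congr 1
  refine Prod.ext ?_ (Prod.ext ?_ ?_) <;>
    simp [act, Matrix.mul_assoc, Matrix.mulVec_mulVec, Matrix.transpose_mul]

/-- The matrix of the action. -/
noncomputable def mat (A : Matrix.SpecialLinearGroup (Fin 3) F) : Matrix I14 I14 F :=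
  LinearMap.toMatrix' (lin (A : Matrix (Fin 3) (Fin 3) F) ↑(A⁻¹))

/-- The action as a monoid map to matrices. -/
noncomputable def matHom : Matrix.SpecialLinearGroup (Fin 3) F →* Matrix I14 I14 F where
  toFun := mat
  map_one' := by simp [mat, lin_one]
  map_mul' A C := by
    rw [mat, mat, mat, ← LinearMap.toMatrix'_comp, lin_mul]
    · rw [_root_.mul_inv_rev, Matrix.SpecialLinearGroup.coe_mul, Matrix.SpecialLinearGroup.coe_mul]
    · rw [← Matrix.SpecialLinearGroup.coe_mul, inv_mul_cancel]
      rfl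

/-- The homomorphism of `SL₃` into the general linear group in dimension fourteen. -/
noncomputable def rho : Matrix.SpecialLinearGroup (Fin 3) F →* GL chevG2.Idx F :=
  MonoidHom.toHomUnits matHom

theorem rho_val (A : Matrix.SpecialLinearGroup (Fin 3) F) :
    ((rho A : GL chevG2.Idx F) : Matrix chevG2.Idx chevG2.Idx F) = mat A := rfl

theorem mat_apply (A : Matrix.SpecialLinearGroup (Fin 3) F) (i j : I14) :
    mat A i j = lin (A : Matrix (Fin 3) (Fin 3) F) ↑(A⁻¹) (Pi.single j 1) i := by
  simp [mat, LinearMap.toMatrix'_apply]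

end Cfsg.Agent.G2Torus
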